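import Cfsg.Agent.GW.Full
import Cfsg.Agent.GW.Psl
import Cfsg.Agent.S5891
import Cfsg.Agent.S5892
import Cfsg.Agent.S0253
import Cfsg.Agent.S0251
import Cfsg.Agent.Perm.AutAlt
import Cfsg.Agent.Golay.Mathieu

/-! Wong's theorem, dihedral Sylow `2`-subgroups: `dih_class` (`A₇`, `PSL₂`, `PGL₂`), `pgl5`, `dih_end`, and
`not_M11` (helper2). -/

set_option autoImplicit false
set_option linter.unusedSectionVars false

namespace Cfsg.Agent.W3

open Cfsg Cfsg.Agent.BG Cfsg.Agent.GW Cfsg.Agent.Classical Subgroup Equiv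
open Cfsg.Agent.Invol hiding orderOf_conj'
open scoped MatrixGroups Pointwise

variable {G : Type*} [Group G] [Finite G]

/-- the conclusion -/
def Con (G : Type*) [Group G] : Prop :=
  Nonempty (G ≃* alternatingGroup (Fin 5)) ∨ Nonempty (G ≃* Equiv.Perm (Fin 5)) ∨
      Nonempty (G ≃* GL (Fin 2) (ZMod 7) ⧸ Subgroup.center (GL (Fin 2) (ZMod 7))) ∨
      Nonempty (G ≃* Matrix.ProjectiveSpecialLinearGroup (Fin 2) (ZMod 11)) ∨
      Nonempty (G ≃* Matrix.ProjectiveSpecialLinearGroup (Fin 2) (ZMod 13)) ∨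
      (∃ p : ℕ, p.Prime ∧ (p % 16 = 1 ∨ p % 16 = 15) ∧ Nonempty (G ≃* Matrix.ProjectiveSpecialLinearGroup (Fin 2) (ZMod p))) ∨
      Nonempty (G ≃* Matrix.ProjectiveSpecialLinearGroup (Fin 3) (ZMod 3)) ∨
      (∃ N : Subgroup G, N.Normal ∧ N.index = 2 ∧ Subgroup.centralizer (N : Set G) = ⊥ ∧
        Nonempty (N ≃* Matrix.ProjectiveSpecialLinearGroup (Fin 3) (ZMod 3)))

theorem dih_class (hG : DihSyl G) (hO : oddCore G = ⊥) (hn : ¬ Group.IsSolvable G)
    (hgen : ∀ D : Subgroup G, D.Normal → (∀ a, a * a = 1 → a ∈ D) → D = ⊤) :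
    IsA7 G ∨ ∃ (F : Type) (_ : Field F) (_ : Fintype F), Odd (Nat.card F) ∧ 3 < Nat.card F ∧
      (Nonempty (G ≃* PSL(2, F)) ∨ Nonempty (G ≃* PGL(2, F))) := by
  obtain ⟨L, _, hs, hL, hC, ⟨q, hq⟩ | h⟩ := GWH.struct gw_simple hG hO hn
  · have hO' := (Op'_top 2).trans hO
    have hq' : L2T L q := by
      obtain ⟨F, _, _, a, b, f, e⟩ := hq
      exact ⟨F, _, _, a, b, f, isog_trans (quo_center_equiv hC) e⟩
    obtain ⟨F, _, _, D, th, φ, hF, k⟩ := (cmp_top hO' (perf_of_simple hs hL) hC).exists_PG hG hq'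
    obtain rfl : D = ⊤ := hgen D ⟨fun a ha g => (k.pker ⟨g * a * g⁻¹, mem_top _⟩).1 (by
      have : (⟨g * a * g⁻¹, mem_top _⟩ : (⊤ : Subgroup G)) = ⟨g, mem_top _⟩ * ⟨a, mem_top _⟩ * ⟨g, mem_top _⟩⁻¹ := rfl
      rw [this, map_mul, map_mul, (k.pker ⟨a, mem_top _⟩).2 ha, mul_one, map_inv, mul_inv_cancel])⟩
      fun a ha => k.invol (mem_top a) ha
    have := Fintype.ofFinite F
    let f : G →* PGL(2, F) := k.hom.comp topEquiv.symm.toMonoidHom
    have hf : Function.Injective f := (injective_iff_map_eq_one f).2 fun a ha => by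
      have := (k.ker (a := a)).2 ⟨mem_top a, ha⟩
      rwa [hO', mem_bot] at this
    have h1 : LP F ≤ f.range := fun x hx => let ⟨a, _, e⟩ := k.surj x hx; ⟨a, e⟩
    refine .inr ⟨F, inferInstance, this, two_ne_zero_iff_odd.1 k.two, k.big, ?_⟩
    have h2 := relIndex_mul_index h1
    rw [index_LP k.two] at h2
    rcases (Nat.dvd_prime Nat.prime_two).1 (Dvd.intro_left _ h2) with e | e
    · exact .inr ⟨MulEquiv.ofBijective f ⟨hf, MonoidHom.range_eq_top.1 (index_eq_one.1 e)⟩⟩
    · rw [e] at h2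
      have h3 : f.range = LP F := le_antisymm (relIndex_eq_one.1 (by omega)) h1
      exact .inl ⟨(MonoidHom.ofInjective hf).trans ((MulEquiv.subgroupCongr h3).trans
        (MonoidHom.ofInjective pslInj).symm)⟩
  · obtain rfl := eq_top_A7 hG h hC
    exact .inl (isog_trans isog_top h)

theorem pgl5 {F : Type} [Field F] [Fintype F] (hF : Nat.card F = 5) : Nonempty (PGL(2, F) ≃* Perm (Fin 5)) := by
  have h2 : (2 : F) ≠ 0 := two_ne_zero_iff_odd.2 (by rw [hF]; decide)
  obtain ⟨e⟩ := S0253.result (F := F) (by rw [← Nat.card_eq_fintype_card, hF])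
  haveI : (LP F).Normal := normal_of_index_eq_two (index_LP h2)
  obtain ⟨K, -, ⟨f⟩⟩ := exists_aut_between (G := PGL(2, F)) (L := LP F) (eq_bot_iff.2 fun a ha =>
    eq_one_of_cent_LP fun x => mul_inv_eq_iff_eq_mul.2 (mem_cent.1 ha _ ⟨x, rfl⟩).symm)
    ((MonoidHom.ofInjective pslInj).symm.trans e)
  let g := MulEquiv.ofBijective _ (Perm.AutAlt.conjNormal_bijective (α := Fin 5) (by simp) (by simp))
  refine ⟨MulEquiv.ofBijective (g.symm.toMonoidHom.comp (K.subtype.comp f.toMonoidHom))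
    ((Nat.bijective_iff_injective_and_card _).2 ⟨g.symm.injective.comp (K.subtype_injective.comp f.injective), ?_⟩)⟩
  rw [card_PGL2, hF, Nat.card_perm]
  simp [Nat.factorial]

theorem pgl_card {F : Type} [Field F] [Fintype F] {n : ℕ} (h : Nat.card PGL(2, F) = n) (hn : n ≤ 48) :
    n = 6 ∨ n = 24 ∧ Fintype.card F = 3 := by
  rw [card_PGL2, Nat.card_eq_fintype_card] at h
  have := Fintype.one_lt_card (α := F)
  generalize Fintype.card F = q at *
  obtain ⟨q, rfl⟩ : ∃ k, q = k + 2 := ⟨q - 2, by omega⟩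
  rw [show q + 2 - 1 = q + 1 from rfl] at h
  have : q ≤ 1 := by nlinarith [Nat.zero_le (q * q), Nat.zero_le (q * q * q)]
  interval_cases q <;> omega

theorem psl_card {F : Type} [Field F] [Fintype F] (ho : Odd (Fintype.card F)) {n : ℕ} (h : Nat.card PSL(2, F) = n)
    (hn : n ≤ 24) : n = 12 ∧ Fintype.card F = 3 := by
  have h3 := card_PSL2_mul (F := F)
  rw [gcd_two_pred_of_odd (by rwa [Nat.card_eq_fintype_card]), ← card_PGL2, h] at h3
  have h4 := card_PGL2 (F := F)
  rcases pgl_card h3.symm (by omega) with e | e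
  · rw [← h3, e, Nat.card_eq_fintype_card] at h4
    obtain ⟨k, hk⟩ := ho
    have := Fintype.one_lt_card (α := F)
    rw [hk] at h4 this
    obtain ⟨k, rfl⟩ : ∃ j, k = j + 1 := ⟨k - 1, by omega⟩
    rw [show 2 * (k + 1) + 1 - 1 = 2 * k + 2 by omega] at h4
    nlinarith [Nat.zero_le (k * k), Nat.zero_le (k * k * k)]
  · omega

theorem d6_ne_a4 (e : DihedralGroup 6 ≃* alternatingGroup (Fin 4)) : False := by
  have key : ∀ x : Perm (Fin 4), Perm.sign x = 1 → x ^ 2 = 1 ∨ x ^ 3 = 1 := by decide +kernel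
  rcases key (e (.r 1)) (e (.r 1)).2 with k | k
  · exact absurd (e.injective ((map_pow e _ 2).trans ((Subtype.ext k).trans (map_one e).symm))) (by decide)
  · exact absurd (e.injective ((map_pow e _ 3).trans ((Subtype.ext k).trans (map_one e).symm))) (by decide)

theorem d12_ne_s4 (e : DihedralGroup 12 ≃* Perm (Fin 4)) : False := by
  have key : ∀ x : Perm (Fin 4), x ^ 4 = 1 ∨ x ^ 3 = 1 := by decide +kernel
  rcases key (e (.r 1)) with k | k
  · exact absurd (e.injective ((map_pow e _ 4).trans (k.trans (map_one e).symm))) (by decide)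
  · exact absurd (e.injective ((map_pow e _ 3).trans (k.trans (map_one e).symm))) (by decide)

theorem card_dih {M : Type*} [Group M] {k : ℕ} (e : Nonempty (M ≃* DihedralGroup k)) : Nat.card M = 2 * k :=
  (card_isog e).trans DihedralGroup.nat_card

theorem card_s4 {M : Type*} [Group M] (e : Nonempty (M ≃* Perm (Fin 4))) : Nat.card M = 24 := by
  rw [card_isog e, Nat.card_perm]; simp [Nat.factorial]

theorem card_an {M : Type*} [Group M] {n : ℕ} (hn : 2 ≤ n) (e : Nonempty (M ≃* alternatingGroup (Fin n))) :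
    Nat.card M = n.factorial / 2 := by
  haveI : Nontrivial (Fin n) := Fin.nontrivial_iff_two_le.2 hn
  rw [card_isog e, nat_card_alternatingGroup]; simp

theorem tri {q n : ℕ} (h : n = q * (q - 1)) (h5 : 5 ≤ q) (hn : n = 12 ∨ n = 24 ∨ n = 48) : False := by
  obtain ⟨q, rfl⟩ : ∃ k, q = k + 5 := ⟨q - 5, by omega⟩
  rw [show q + 5 - 1 = q + 4 from rfl] at h
  have : q ≤ 2 := by
    by_contra k
    have : n ≤ 48 := by omega
    nlinarith [Nat.zero_le (q * q), not_le.1 k]
  interval_cases q <;> omega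

theorem psl_end {F : Type} [Field F] [Fintype F] (ho : Odd (Nat.card F)) (h3 : 3 < Nat.card F)
    {M : Subgroup PSL(2, F)} (hM : IsCoatom M) :
    (Nat.card M ≠ 6 ∨ Nat.card F ≠ 7) ∧
    (Nonempty (M ≃* DihedralGroup 6) → Nat.card F = 11 ∨ Nat.card F = 13) ∧
    (Nonempty (M ≃* Perm (Fin 4)) → 16 ∣ Nat.card PSL(2, F) →
      (Nat.card F).Prime ∧ (Nat.card F % 16 = 1 ∨ Nat.card F % 16 = 15)) := by
  obtain ⟨p, _⟩ := CharP.exists F
  haveI : Fact p.Prime := ⟨CharP.char_is_prime F p⟩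
  have hc := card_PSL2_mul (F := F)
  rw [gcd_two_pred_of_odd ho] at hc
  rw [Nat.card_eq_fintype_card (α := F)] at *
  have h5 : 5 ≤ Fintype.card F := by obtain ⟨k, hk⟩ := ho; omega
  have odd0 : ∀ a r : ℕ, r.Prime → Fintype.card F = a ^ r → Odd a := fun a r hr e =>
    (Nat.odd_pow_iff hr.ne_zero).1 (e ▸ ho)
  rcases S5892.result p ho h5 M hM with h | ⟨h, k, h1, h2⟩ | ⟨h, h', k, h1, h2⟩ | ⟨K, _, _, h1, h2⟩ |
    ⟨K, _, _, r, h, h', h1, h2⟩ | ⟨-, -, h2⟩ | ⟨h, h1, -, h2⟩ | ⟨h, h1, h2⟩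
  · exact ⟨by_contra fun k => by push Not at k; rw [k.1, k.2] at h; omega,
      fun e => (tri h h5 (by rw [card_dih e]; simp)).elim, fun e => (tri h h5 (by rw [card_s4 e]; simp)).elim⟩
  · have := card_dih h2
    refine ⟨by omega, fun e => by have := card_dih e; omega, fun e => ?_⟩
    obtain rfl : k = 12 := by have := card_s4 e; omega
    exact (d12_ne_s4 (h2.some.symm.trans e.some)).elim
  · have := card_dih h2
    refine ⟨by omega, fun e => by have := card_dih e; omega, fun e => ?_⟩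
    obtain rfl : k = 12 := by have := card_s4 e; omega
    exact (d12_ne_s4 (h2.some.symm.trans e.some)).elim
  · refine ⟨.inr fun e => ?_, fun e => ?_, fun e k => ?_⟩
    · exact absurd (e.symm.trans h1 ▸ (by norm_num : Nat.Prime 7)) (Nat.Prime.not_prime_pow le_rfl)
    · have := pgl_card ((card_isog h2).symm.trans (card_dih e)) (by norm_num); omega
    · have := pgl_card ((card_isog h2).symm.trans (card_s4 e)) (by norm_num)
      rw [h1, (this.resolve_left (by norm_num)).2] at hc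
      omega
  · refine ⟨.inr fun e => ?_, fun e => ?_, fun e k => ?_⟩
    · exact absurd (e.symm.trans h1 ▸ (by norm_num : Nat.Prime 7)) (Nat.Prime.not_prime_pow h.two_le)
    · have := psl_card (odd0 _ _ h h1) ((card_isog h2).symm.trans (card_dih e)) (by norm_num)
      exact (d6_ne_a4 (e.some.symm.trans (h2.some.trans (S0251.result this.2).some))).elim
    · have := psl_card (odd0 _ _ h h1) ((card_isog h2).symm.trans (card_s4 e)) (by norm_num)
      omega
  · have := card_an (by norm_num) h2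
    simp only [Nat.factorial] at this
    exact ⟨by omega, fun e => by have := card_dih e; omega, fun e => by have := card_s4 e; omega⟩
  · have := card_an (by norm_num) h2
    simp only [Nat.factorial] at this
    exact ⟨by omega, fun e => (d6_ne_a4 (e.some.symm.trans h2.some)).elim, fun e => by have := card_s4 e; omega⟩
  · have := card_s4 h2
    refine ⟨by omega, fun e => by have := card_dih e; omega, fun _ k => ⟨h ▸ Fact.out, ?_⟩⟩
    obtain ⟨c, k⟩ := k
    rw [k, h] at hc
    rw [h]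
    by_contra k'
    obtain ⟨a, ha | ha⟩ : ∃ a, p = 16 * a + 7 ∨ p = 16 * a + 9 := ⟨p / 16, by omega⟩
    · rw [ha, show 16 * a + 7 - 1 = 16 * a + 6 from rfl] at hc
      have : (16 * a + 7) * (16 * a + 6) * (16 * a + 7 + 1) =
        32 * (128 * a ^ 3 + 168 * a ^ 2 + 73 * a + 10) + 16 := by ring
      omega
    · rw [ha, show 16 * a + 9 - 1 = 16 * a + 8 from rfl] at hc
      have : (16 * a + 9) * (16 * a + 8) * (16 * a + 9 + 1) =
        32 * (128 * a ^ 3 + 216 * a ^ 2 + 121 * a + 22) + 16 := by ring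
      omega

theorem not_16 {q : ℕ} (h : q % 8 = 3 ∨ q % 8 = 5) : ¬ 16 ∣ q * (q - 1) * (q + 1) := by
  obtain ⟨a, ha | ha⟩ : ∃ a, q = 8 * a + 3 ∨ q = 8 * a + 5 := ⟨q / 8, by omega⟩
  · rw [ha, show 8 * a + 3 - 1 = 8 * a + 2 from rfl, show (8 * a + 3) * (8 * a + 2) * (8 * a + 3 + 1) =
      16 * (32 * a ^ 3 + 36 * a ^ 2 + 13 * a + 1) + 8 by ring]
    omega
  · rw [ha, show 8 * a + 5 - 1 = 8 * a + 4 from rfl, show (8 * a + 5) * (8 * a + 4) * (8 * a + 5 + 1) =
      16 * (32 * a ^ 3 + 60 * a ^ 2 + 37 * a + 7) + 8 by ring]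
    omega

theorem pgl_end {F : Type} [Field F] [Fintype F] (ho : Odd (Nat.card F)) (h3 : 3 < Nat.card F)
    {M : Subgroup PGL(2, F)} (hM : IsCoatom M) (hL : ¬ LP F ≤ M) :
    (Nonempty (M ≃* DihedralGroup 6) → Nat.card F = 7 ∨ Nat.card F = 5) ∧
    (Nonempty (M ≃* Perm (Fin 4)) → ¬ 16 ∣ Nat.card PGL(2, F)) := by
  have hc := card_PGL2 (F := F)
  rw [Nat.card_eq_fintype_card (α := F)] at *
  have h5 : 5 ≤ Fintype.card F := by obtain ⟨k, hk⟩ := ho; omega
  rcases S5891.result ho h3 M hM (fun k => hL fun x ⟨g, h⟩ => k (by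
    obtain ⟨g, rfl⟩ := pslMk_surjective g; exact ⟨g, h⟩)) with h | ⟨-, h2⟩ | h2 | ⟨-, h1, h2⟩ | ⟨K, _, _, r, h, h', h1, h2⟩
  · exact ⟨fun e => (tri h h5 (by rw [card_dih e]; simp)).elim, fun e => (tri h h5 (by rw [card_s4 e]; simp)).elim⟩
  · have := card_dih h2
    refine ⟨fun e => by have := card_dih e; omega, fun e => ?_⟩
    rw [show Fintype.card F - 1 = 12 by have := card_s4 e; omega] at h2
    exact (d12_ne_s4 (h2.some.symm.trans e.some)).elim
  · have := card_dih h2
    refine ⟨fun e => by have := card_dih e; omega, fun e => ?_⟩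
    rw [show Fintype.card F + 1 = 12 by have := card_s4 e; omega] at h2
    exact (d12_ne_s4 (h2.some.symm.trans e.some)).elim
  · have := card_s4 h2
    exact ⟨fun e => by have := card_dih e; omega, fun _ => hc ▸ not_16 h1⟩
  · refine ⟨fun e => ?_, fun e => ?_⟩
    · have := pgl_card ((card_isog h2).symm.trans (card_dih e)) (by norm_num); omega
    · have := pgl_card ((card_isog h2).symm.trans (card_s4 e)) (by norm_num)
      rw [(this.resolve_left (by norm_num)).2] at h1
      obtain ⟨k, rfl⟩ := h'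
      refine hc ▸ not_16 (.inl ?_)
      rw [h1, pow_succ, pow_mul, Nat.mul_mod, Nat.pow_mod]
      simp

theorem coatom_map {H : Type*} [Group H] (e : G ≃* H) {M : Subgroup G} (hM : IsCoatom M) :
    IsCoatom (M.map e.toMonoidHom) := ((MulEquiv.mapSubgroup e).isCoatom_iff M).2 hM

theorem dih_end (hG : DihSyl G) (hO : oddCore G = ⊥) (hn : ¬ Group.IsSolvable G)
    (hgen : ∀ D : Subgroup G, D.Normal → (∀ a, a * a = 1 → a ∈ D) → D = ⊤) {M : Subgroup G} (hM : IsCoatom M)
    (hc : ∀ N : Subgroup G, N.Normal → N ≤ M → N = ⊥)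
    (h : (Nonempty (M ≃* DihedralGroup 6) ∧ ∃ z, orderOf z = 2 ∧ C1[z] ≤ M) ∨
      (Nonempty (M ≃* Perm (Fin 4)) ∧ 16 ∣ Nat.card G)) : Con G := by
  haveI : Fact (Nat.Prime 2) := ⟨Nat.prime_two⟩
  rcases dih_class hG hO hn hgen with hA | ⟨F, _, _, ho, h3, ⟨⟨e⟩⟩ | ⟨⟨e⟩⟩⟩
  · exfalso
    have hcard := card_an (by norm_num) hA
    simp only [Nat.factorial] at hcard
    rcases h with ⟨e, z, hz, hC⟩ | ⟨-, h⟩
    · obtain ⟨S⟩ : Nonempty (Sylow 2 G) := inferInstance
      have hS : Nat.card S = 2 ^ 3 := card_sylow_of_card S (m := 315) hcard (by norm_num)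
      obtain ⟨t, -, ht, hc⟩ := exists_central_invol S.isPGroup' fun k => by
        have : Nat.card (S : Subgroup G) = 2 ^ 3 := hS
        simp [k] at this
      haveI : IsSimpleGroup (alternatingGroup (Fin 7)) := alternatingGroup.isSimpleGroup (by simp)
      haveI : IsSimpleGroup G := hA.some.isSimpleGroup
      have hC' : C[(⊤ : Subgroup G)] = ⊥ := by
        rw [coe_top, centralizer_univ]
        exact (inferInstance : (center G).Normal).eq_bot_or_eq_top.resolve_right fun k => hn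
          (Group.isSolvable_of_comm fun a b => (mem_center_iff.1 (k ▸ mem_top b) a))
      obtain ⟨l, -, hl⟩ := (cmp_top ((Op'_top 2).trans hO) (perf_of_simple topEquiv.isSimpleGroup
        fun k => hn (isog_sol (isog_symm isog_top) k)) hC').one_class_A7 hG
        (isog_trans (quo_center_equiv hC') (isog_trans (isog_symm isog_top) hA)) (mem_top t) (mem_top z) ht hz
      have h1 : Nat.card (S : Subgroup G) ∣ Nat.card C1[t] :=
        card_dvd_of_le fun s hs => mem_centralizer_singleton.2 (hc s hs)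
      rw [card_centralizer_of_isConj (isConj_iff.2 ⟨l, hl⟩)] at h1
      have h2 := h1.trans (card_dvd_of_le hC)
      rw [card_dih e, show Nat.card (S : Subgroup G) = 2 ^ 3 from hS] at h2
      omega
    · omega
  · obtain ⟨-, k1, k2⟩ := psl_end ho h3 (coatom_map e hM)
    have e' := M.equivMapOfInjective e.toMonoidHom e.injective
    have fin : ∀ p : ℕ, p.Prime → Nat.card F = p → Nonempty (G ≃* PSL(2, ZMod p)) := fun p hp k => by
      haveI := Fact.mk hp
      exact ⟨e.trans (pslCongr (nonempty_ringEquiv_zmod k).some)⟩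
    rcases h with ⟨⟨f⟩, -⟩ | ⟨⟨f⟩, h⟩
    · rcases k1 ⟨e'.symm.trans f⟩ with k | k
      · exact .inr (.inr (.inr (.inl (fin 11 (by norm_num) k))))
      · exact .inr (.inr (.inr (.inr (.inl (fin 13 (by norm_num) k)))))
    · obtain ⟨a, b⟩ := k2 ⟨e'.symm.trans f⟩ (card_isog ⟨e⟩ ▸ h)
      exact .inr (.inr (.inr (.inr (.inr (.inl ⟨_, a, b, fin _ a rfl⟩)))))
  · have h2 := two_ne_zero_iff_odd.2 ho
    haveI : (LP F).Normal := normal_of_index_eq_two (index_LP h2)
    obtain ⟨k1, k2⟩ := pgl_end ho h3 (coatom_map e hM) fun k => by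
      have h1 := hc ((LP F).comap e.toMonoidHom) inferInstance fun x hx => by
        obtain ⟨y, hy, r⟩ := k hx
        rwa [← e.injective r]
      have h4 := (LP F).index_comap_of_surjective (f := e.toMonoidHom) e.surjective
      rw [h1, index_bot, index_LP h2] at h4
      haveI := isCyclic_of_prime_card h4
      exact hn (Group.isSolvable_of_comm fun a b => IsCyclic.commGroup.mul_comm a b)
    have e' := M.equivMapOfInjective e.toMonoidHom e.injective
    rcases h with ⟨⟨f⟩, -⟩ | ⟨⟨f⟩, h⟩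
    · rcases k1 ⟨e'.symm.trans f⟩ with k | k
      · haveI : Fact (Nat.Prime 7) := ⟨by norm_num⟩
        exact .inr (.inr (.inl ⟨e.trans (pglCongr (nonempty_ringEquiv_zmod k).some)⟩))
      · exact .inr (.inl ⟨e.trans (pgl5 k).some⟩)
    · exact absurd (card_isog ⟨e⟩ ▸ h) (k2 ⟨e'.symm.trans f⟩)

open Golay MulAction in
/-- `M₁₁` has no maximal subgroup of order `24` with a nontrivial normal `2`-subgroup. -/
theorem not_M11 (hG : Spor.IsoM11 G) {M V : Subgroup G} (hM : IsCoatom M) (hc : Nat.card M = 24)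
    (hV : IsPGroup 2 V) (h0 : V ≠ ⊥) (hn : M ≤ N[V]) : False := by
  classical
  haveI : Fact (Nat.Prime 2) := ⟨Nat.prime_two⟩
  obtain ⟨e⟩ := hG
  let ρ : G →* Perm GolayPt := Spor.M11.subtype.comp e.toMonoidHom
  have hρ : ∀ g, ρ g ∈ Spor.M11 := fun g => (e g).2
  let X : SubMulAction Spor.M11 GolayPt := ⟨D11, fun g _ ha => invar11 g g.2 _ ha⟩
  letI : MulAction G X := MulAction.compHom X e.toMonoidHom
  have hs : ∀ (g : G) (x : X), ((g • x : X) : GolayPt) = ρ g • (x : GolayPt) := fun _ _ => rfl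
  have hX : Nat.card X = 11 := ncard_D11
  haveI := Fintype.ofFinite X
  let Φ : Finset X := Finset.univ.filter fun x => ∀ v ∈ V, v • x = x
  have h1 : Φ.card % 2 = 1 := by
    have := hV.card_modEq_card_fixedPoints X
    rw [hX] at this
    rw [← card_subtype_eq_filter]
    refine Eq.trans ?_ this.symm
    congr 1
    exact Nat.card_congr (Equiv.subtypeEquivRight fun x => ⟨fun k v => k v v.2, fun k v hv => k ⟨v, hv⟩⟩)
  have h2 : Φ.card < 4 := by
    by_contra k
    obtain ⟨x, hx⟩ := exists_embedding_mem (S := Subtype.val '' (Φ : Set X)) (k := 4) (by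
      rw [Set.ncard_image_of_injective _ Subtype.val_injective, Set.ncard_coe_finset]; omega)
    refine h0 (eq_bot_iff.2 fun v hv => e.injective (Subtype.ext ((eq_one_of_sharp trans11 invar11
      (by rw [card_M11, ncard_D11]; rfl) (x := x) (fun i => ?_) (hρ v) fun i => ?_).trans (by simp))))
    · obtain ⟨y, -, r⟩ := hx i
      exact r ▸ y.2
    · obtain ⟨y, hy, r⟩ := hx i
      rw [← r, ← hs, (Finset.mem_filter.1 hy).2 v hv]
  have h3 : M ≤ stabilizer G Φ := fun m hm => by
    refine Finset.eq_of_subset_of_card_le (fun y hy => ?_) (Finset.card_smul_finset m Φ).ge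
    obtain ⟨x, hx, rfl⟩ := Finset.mem_smul_finset.1 hy
    refine Finset.mem_filter.2 ⟨Finset.mem_univ _, fun v hv => ?_⟩
    have := (Finset.mem_filter.1 hx).2 _ (conj_mem_of_norm (inv_mem (hn hm)) hv)
    rw [inv_inv, mul_smul, mul_smul, inv_smul_eq_iff] at this
    exact this
  have hG : Nat.card G = 7920 := (card_isog ⟨e⟩).trans card_M11
  have h4 : (stabilizer G Φ).index ≤ Nat.choose 11 Φ.card := by
    rw [index_stabilizer, ← hX, Nat.card_eq_fintype_card, ← Finset.card_univ, ← Finset.card_powersetCard,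
      ← Set.ncard_coe_finset]
    refine Set.ncard_le_ncard (fun y ⟨g, hg⟩ => ?_)
    simp [← hg]
  rcases hM.le_iff.1 h3 with k | k
  · obtain ⟨x, hx⟩ : Φ.Nonempty := Finset.card_pos.1 (by omega)
    have : Φ = Finset.univ := Finset.eq_univ_of_forall fun y => by
      have t1 : Comp.TransOn Spor.M11 D11 1 := trans11.mono (by norm_num) (by rw [ncard_D11]; norm_num)
      obtain ⟨g, hg, r⟩ := t1
        ⟨fun _ => x, fun _ _ _ => Subsingleton.elim _ _⟩ ⟨fun _ => y, fun _ _ _ => Subsingleton.elim _ _⟩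
        (fun _ => x.2) fun _ => y.2
      have r1 : e.symm ⟨g, hg⟩ • x = y := Subtype.ext (by
        rw [hs]
        have : ρ (e.symm ⟨g, hg⟩) = g := by simp [ρ]
        rw [this]; exact r 0)
      have r2 : e.symm ⟨g, hg⟩ • Φ = Φ := mem_stabilizer_iff.1 (k ▸ mem_top (e.symm ⟨g, hg⟩))
      rw [← r1, ← r2]
      exact Finset.smul_mem_smul_finset hx
    rw [this, Finset.card_univ, ← Nat.card_eq_fintype_card, hX] at h2
    omega
  · have h5 := M.card_mul_index
    rw [k] at h4
    rw [hc, hG] at h5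
    obtain r | r : Φ.card = 1 ∨ Φ.card = 3 := by omega
    all_goals rw [r] at h4; simp [Nat.choose] at h4; omega

end Cfsg.Agent.W3
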